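import Cfsg.Agent.Lib.BlockDegreeSquares.Tops
import Cfsg.Agent.Lib.CharTheory.PSection
import Cfsg.Agent.Lib.CharTheory.Monomial
import Cfsg.Agent.Lib.CharTheory.Coherence

/-!
# Generalized characters vanishing off the regular elements

By Brauer's induction theorem such a character is an integral combination of the characters of
idempotents attached to linear characters of subgroups of order prime to `p`.
-/

namespace CfsgLib.BlockDegreeSquares

open Cfsg CfsgLib.CharTheory CfsgLib.Blocks CfsgLib.Blocks.Star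
open MonoidAlgebra (single)
open scoped ComplexConjugate

set_option linter.unusedVariables false
set_option linter.unusedSectionVars false
set_option linter.style.haveILetI false

universe u

variable {p : ℕ} {M : Ideal AlgInt} {G : Type u} [Group G] [Fintype G]

/-- The idempotent of a linear character of a subgroup of order prime to `p`. -/
theorem exists_idem_linear (hM : IsPModular p M) {H : Type u} [Group H] [Fintype H] (ι : H →* G)
    (hp : ¬ p ∣ Nat.card H) (lam : H →* ℂˣ) :
    ∃ x : RG hM G, x * x = x ∧ ∀ χ : IrrCharacter G,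
      tr hM χ x = classInner (fun h => (lam h : ℂ)) (fun h => (χ : G → ℂ) (ι h)) := by
  classical
  have hc : ∀ h, MemLocalRing M ((Nat.card H : ℂ)⁻¹ * conj (lam h : ℂ)) := fun h =>
    (loc hM).mul_mem (natCast_inv_mem hM hp) (memRing_of_isIntegral hM (CfsgLib.CharTheory.isIntegral_conj
      (isIntegral_of_char (isCharacter_of_irr (isIrrCharacter_linear lam)) h)))
  set c : H → loc hM := fun h => ⟨_, hc h⟩ with hcdef
  refine ⟨∑ h, single (ι h) (c h), ?_, fun χ => ?_⟩
  · rw [Finset.sum_mul]
    simp only [Finset.mul_sum, MonoidAlgebra.single_mul_single, ← map_mul]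
    calc ∑ h, ∑ h', single (ι (h * h')) (c h * c h')
        = ∑ h, ∑ k, single (ι k) (c h * c (h⁻¹ * k)) :=
          Finset.sum_congr rfl fun h _ => Fintype.sum_equiv (Equiv.mulLeft h) _ _ fun h' => by simp
      _ = ∑ k, ∑ h, single (ι k) (c h * c (h⁻¹ * k)) := Finset.sum_comm
      _ = ∑ k, single (ι k) (c k) := Finset.sum_congr rfl fun k _ => by
          suffices hs : ∑ h, c h * c (h⁻¹ * k) = c k by
            conv_rhs => rw [← hs]
            refine ext_coeff fun a => ?_
            simp only [MonoidAlgebra.coeff_sum, Finsupp.finsetSum_apply, MonoidAlgebra.coeff_single,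
              Finsupp.single_finsetSum]
          apply Subtype.ext
          rw [AddSubmonoidClass.coe_finsetSum]
          simp only [hcdef, Subring.coe_mul]
          rw [Finset.sum_congr rfl fun h _ => show _ = (Nat.card H : ℂ)⁻¹ *
            ((Nat.card H : ℂ)⁻¹ * conj (lam k : ℂ)) by
            rw [mul_mul_mul_comm, ← map_mul, ← Units.val_mul, ← map_mul, mul_inv_cancel_left]
            ring, Finset.sum_const, Finset.card_univ, nsmul_eq_mul, ← mul_assoc,
            ← Nat.card_eq_fintype_card, mul_inv_cancel₀ (Nat.cast_ne_zero.2 Nat.card_pos.ne'),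
            one_mul]
  · obtain ⟨n, hn⟩ := classInner_char_nat
      (isCharacter_comp (isCharacter_of_irr χ.2) ι) (isCharacter_of_irr (isIrrCharacter_linear lam))
    have h1 : tr hM χ (∑ h, single (ι h) (c h)) =
        classInner (fun h => (χ : G → ℂ) (ι h)) (fun h => (lam h : ℂ)) := by
      rw [tr, map_sum, AddSubmonoidClass.coe_finsetSum, classInner, Finset.mul_sum]
      refine Finset.sum_congr rfl fun h _ => ?_
      rw [tau_single, Subring.coe_mul]
      show (Nat.card H : ℂ)⁻¹ * conj (lam h : ℂ) * (χ : G → ℂ) (ι h) = _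
      ring
    rw [h1, hn, ← classInner_comm (fun h => (χ : G → ℂ) (ι h)), hn, map_natCast]

/-- Retraction of a finite nilpotent group onto its elements of order prime to `p`. -/
theorem exists_retraction {E : Type u} [Group E] [Finite E] (hE : Group.IsNilpotent E)
    (hp : p.Prime) :
    ∃ (U : Subgroup E) (r : E →* U), ¬ p ∣ Nat.card U ∧ (∀ e : E, e ∉ U → p ∣ orderOf e) ∧
      ∀ u : U, r u = u := by
  classical
  haveI := Fact.mk hp
  set m := Nat.card E / p ^ (Nat.card E).factorization p with hm
  set q := p ^ (Nat.card E).factorization p with hq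
  have hmq : q * m = Nat.card E := Nat.ordProj_mul_ordCompl_eq_self _ _
  have hpm : ¬ p ∣ m := Nat.not_dvd_ordCompl hp Nat.card_pos.ne'
  have hcop : Nat.Coprime m q := ((hp.coprime_iff_not_dvd.2 hpm).pow_left _).symm
  obtain ⟨U, hUn, hU, hcomm⟩ := exists_coprime_part hE p
  obtain ⟨V, hVn, hV, -⟩ := exists_coprime_part hE m
  obtain ⟨N, hN1, hN0⟩ := Nat.chineseRemainder hcop 1 0
  have hNU : ∀ x : E, x ^ N ∈ U := by
    intro x
    rw [hU]
    have : orderOf (x ^ N) ∣ m := orderOf_dvd_of_pow_eq_one (by
      obtain ⟨t, ht⟩ := Nat.modEq_zero_iff_dvd.1 hN0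
      rw [← pow_mul, ht, mul_assoc, mul_comm t, ← mul_assoc, hmq, pow_mul, pow_card_eq_one',
        one_pow])
    exact ((hp.coprime_iff_not_dvd.2 fun h => hpm (h.trans this))).symm
  have hfix : ∀ u ∈ U, u ^ N = u := by
    intro u hu
    have hd : orderOf u ∣ m := by
      refine Nat.Coprime.dvd_of_dvd_mul_left (n := m) ?_ (hmq ▸ orderOf_dvd_natCard u)
      exact ((hU u).1 hu).pow_right _
    conv_rhs => rw [← pow_one u]
    exact pow_eq_pow_iff_modEq.2 (hN1.of_dvd hd)
  have hVN : ∀ v ∈ V, v ^ N = 1 := by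
    intro v hv
    refine orderOf_dvd_iff_pow_eq_one.1 ?_
    refine dvd_trans (Nat.Coprime.dvd_of_dvd_mul_right ((hV v).1 hv)
      (hmq ▸ orderOf_dvd_natCard v)) (Nat.modEq_zero_iff_dvd.1 hN0)
  have hdec : ∀ x : E, (x ^ N)⁻¹ * x ∈ V := by
    intro x
    rw [hV]
    have : orderOf ((x ^ N)⁻¹ * x) ∣ q := orderOf_dvd_of_pow_eq_one (by
      rw [((Commute.self_pow x N).symm.inv_left).mul_pow, inv_pow, ← pow_mul,
        inv_mul_eq_one, pow_eq_pow_iff_modEq]
      refine Nat.ModEq.of_dvd ((orderOf_dvd_natCard x).trans hmq.symm.dvd) ?_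
      have := hN1.mul_right' q
      rwa [one_mul, mul_comm m] at this)
    exact Nat.Coprime.coprime_dvd_left this hcop.symm
  have hUV : ∀ a ∈ U, ∀ b ∈ V, Commute a b := fun a ha b hb =>
    hcomm a b (Nat.Coprime.coprime_dvd_left
      ((Nat.Coprime.dvd_of_dvd_mul_left (((hU a).1 ha).pow_right _) (hmq ▸ orderOf_dvd_natCard a) :
        orderOf a ∣ m)) ((hV b).1 hb).symm)
  have hmul : ∀ x y : E, (x * y) ^ N = x ^ N * y ^ N := by
    intro x y
    have hx : x = x ^ N * ((x ^ N)⁻¹ * x) := (mul_inv_cancel_left _ _).symm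
    have hy : y = y ^ N * ((y ^ N)⁻¹ * y) := (mul_inv_cancel_left _ _).symm
    set u := x ^ N with hu
    set v := (x ^ N)⁻¹ * x with hv
    set u' := y ^ N with hu'
    set v' := (y ^ N)⁻¹ * y with hv'
    have e : x * y = (u * u') * (v * v') := by
      rw [hx, hy, mul_assoc, ← mul_assoc v, ← (hUV u' (hNU y) v (hdec x)).eq, mul_assoc u',
        ← mul_assoc u]
    rw [e, (hUV _ (U.mul_mem (hNU x) (hNU y)) _ (V.mul_mem (hdec x) (hdec y))).mul_pow,
      hfix _ (U.mul_mem (hNU x) (hNU y)), hVN _ (V.mul_mem (hdec x) (hdec y)), mul_one]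
  refine ⟨U, (MonoidHom.mk' (fun x : E => (⟨x ^ N, hNU x⟩ : U)) fun x y => Subtype.ext (hmul x y)),
    fun h => ?_, fun e he => ?_, fun u => Subtype.ext (hfix u u.2)⟩
  · obtain ⟨u, hu⟩ := exists_prime_orderOf_dvd_card' p h
    have := (hU u).1 u.2
    rw [Subgroup.orderOf_coe, hu, Nat.coprime_self] at this
    exact hp.ne_one this
  · by_contra h
    exact he ((hU e).2 ((hp.coprime_iff_not_dvd.2 h).symm))

variable {r : ℕ} (hM : IsPModular p M) (e : Fin r → RG hM G)

/-- An integral combination of the characters of the given idempotents. -/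
def Good (f : G → ℂ) : Prop :=
  ∃ c : Fin r → ℤ, ∀ χ : IrrCharacter G,
    classInner f (χ : G → ℂ) = ∑ l, (c l : ℂ) * tr hM χ (e l)

variable {hM e}

theorem good_of_vanish
    (hgen : ∀ x : RG hM G, x * x = x →
      ∃ N : Fin r → ℕ, ∀ χ : IrrCharacter G, tr hM χ x = ∑ l, (N l : ℂ) * tr hM χ (e l))
    {θ : G → ℂ} (hθ : IsGeneralizedCharacter G θ) (hvan : ∀ g, p ∣ orderOf g → θ g = 0) :
    Good hM e θ := by
  classical
  have hcl := (isGenChar_iff_coeff_int.1 hθ).1
  suffices ∀ f ∈ linSpan G, Good hM e (f * θ) by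
    have := this _ one_mem_linSpan
    rwa [show ((fun _ => 1) * θ) = θ from funext fun t => one_mul _] at this
  intro f hf
  induction hf using AddSubgroup.closure_induction with
  | zero => exact ⟨0, fun χ => by simp⟩
  | add f g _ _ h h' =>
    obtain ⟨c, hc⟩ := h
    obtain ⟨c', hc'⟩ := h'
    refine ⟨c + c', fun χ => ?_⟩
    rw [add_mul, classInner_add_left, hc, hc', ← Finset.sum_add_distrib]
    exact Finset.sum_congr rfl fun l _ => by simp [add_mul]
  | neg f _ h =>
    obtain ⟨c, hc⟩ := h
    refine ⟨-c, fun χ => ?_⟩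
    rw [neg_mul, classInner_neg_left, hc, ← Finset.sum_neg_distrib]
    exact Finset.sum_congr rfl fun l _ => by simp
  | mem f hf =>
    obtain ⟨E, lam, q, hq, hel, rfl⟩ := hf
    have := Fintype.ofFinite E
    obtain ⟨U, ret, hUp, hUout, hret⟩ :=
      exists_retraction (isNilpotent_of_elementary hq hel) hM.1
    have := Fintype.ofFinite U
    set ψ : E → ℂ := (fun x => (lam x : ℂ)) * fun x : E => θ x with hψdef
    have hψg : IsGeneralizedCharacter E ψ :=
      isGenChar_mul (isGenChar_of_char (isCharacter_of_irr (isIrrCharacter_linear lam)))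
        (by
          obtain ⟨a, b, ha, hb, hab⟩ := hθ
          exact ⟨_, _, isCharacter_restrict ha E, isCharacter_restrict hb E,
            funext fun x => congrFun hab (x : G)⟩)
    have hψout : ∀ x : E, x ∉ U → ψ x = 0 := fun x hx => by
      simp only [hψdef, Pi.mul_apply]
      rw [hvan _ (by rw [Subgroup.orderOf_coe]; exact hUout x hx), mul_zero]
    have hψcl := (isGenChar_iff_coeff_int.1 hψg).1
    set η : U → ℂ := fun u => (Nat.card U : ℂ) / (Nat.card E : ℂ) * ψ u with hη
    have hinner : ∀ β : E → ℂ, classInner ψ β = classInner η (fun u : U => β u) := by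
      intro β
      simp only [classInner, hη]
      have hs : ∑ x : E, ψ x * conj (β x) = ∑ u : U, ψ u * conj (β u) := by
        rw [← Finset.sum_subtype (Finset.univ.filter fun x : E => x ∈ U) (by simp)
          (fun x : E => ψ x * conj (β x))]
        refine (Finset.sum_filter_of_ne fun x _ hx => ?_).symm
        by_contra hc
        exact hx (by rw [hψout x hc, zero_mul])
      have hU0 : (Nat.card U : ℂ) ≠ 0 := Nat.cast_ne_zero.2 Nat.card_pos.ne'
      rw [hs, Finset.mul_sum, Finset.mul_sum]
      refine Finset.sum_congr rfl fun u _ => ?_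
      field_simp
    have hηcl : IsClassFunction U η := fun a b => by
      simp only [hη]
      congr 1
      exact hψcl (a : E) (b : E)
    have hz : ∀ μ : IrrCharacter U, ∃ z : ℤ, classInner η (μ : U → ℂ) = z := by
      intro μ
      obtain ⟨z, hz⟩ := classInner_genChar_int hψg
        (isGenChar_of_char (isCharacter_comp (isCharacter_of_irr μ.2) ret))
      exact ⟨z, by rw [← hz, hinner]; simp only [hret]⟩
    choose z hz using hz
    have hμ : ∀ μ : IrrCharacter U, ∃ x : RG hM G, x * x = x ∧ ∀ χ : IrrCharacter G,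
        tr hM χ x = classInner (μ : U → ℂ) (fun u : U => (χ : G → ℂ) (u : E)) := by
      intro μ
      haveI : Group.IsNilpotent E := isNilpotent_of_elementary hq hel
      obtain ⟨H, lam', hH⟩ := isMonomialChar_of_nilpotent μ.2
      have := Fintype.ofFinite H
      obtain ⟨x, hx, hxχ⟩ := exists_idem_linear hM
        ((E.subtype.comp U.subtype).comp H.subtype)
        (fun h => hUp (h.trans (Subgroup.card_subgroup_dvd_card H))) lam'
      refine ⟨x, hx, fun χ => ?_⟩
      rw [hxχ, hH, frobenius_reciprocity H]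
      · rfl
      · exact fun a b => irr_isClassFun χ ((a : E) : G) ((b : E) : G)
    choose x hx hxχ using hμ
    choose N hN using fun μ : IrrCharacter U => hgen (x μ) (hx μ)
    refine ⟨fun l => ∑ μ : IrrCharacter U, z μ * (N μ l : ℤ), fun χ => ?_⟩
    rw [← indFun_mul E _ hcl, frobenius_reciprocity E _ (irr_isClassFun χ), ← hψdef, hinner]
    conv_lhs => rw [eq_sum_irr hηcl]
    rw [classInner_sum_left]
    push_cast
    simp only [Finset.sum_mul]
    rw [Finset.sum_comm]
    refine Finset.sum_congr rfl fun μ _ => ?_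
    rw [classInner_smul_left, hz, ← hxχ μ χ, hN μ χ, Finset.mul_sum]
    exact Finset.sum_congr rfl fun l _ => by ring

end CfsgLib.BlockDegreeSquares
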