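import Cfsg.Agent.Lib.BlockDegreeSquares.Lattice
import Cfsg.Agent.Lib.Blocks.Rank
import Cfsg.Agent.Lib.Blocks.RegularParts

/-!
# The sum of the squares of the degrees in a block
-/

namespace CfsgLib.BlockDegreeSquares

open Cfsg CfsgLib.CharTheory CfsgLib.Blocks CfsgLib.Blocks.Star
open MonoidAlgebra (single)
open scoped ComplexConjugate

set_option linter.unusedVariables false
set_option linter.unusedSectionVars false
set_option linter.style.haveILetI false

universe u

variable {p : ℕ} {M : Ideal AlgInt} {G : Type u} [Group G] [Fintype G]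

theorem classInner_comb (B : Set (IrrCharacter G)) (r : IrrCharacter G → ℂ) (χ : IrrCharacter G) :
    classInner (∑ φ ∈ bset B, r φ • (φ : G → ℂ)) (χ : G → ℂ) = ind B χ * r χ := by
  classical
  simp only [classInner_sum_left, classInner_smul_left]
  by_cases h : χ ∈ B
  · rw [ind_of_mem h, one_mul, Finset.sum_eq_single χ, classInner_irr_self χ.2, mul_one]
    · intro φ _ hφ
      rw [classInner_irr_ne φ.2 χ.2 fun h' => hφ (Subtype.ext h'), mul_zero]
    · exact fun h' => absurd (mem_bset.2 h) h'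
  · rw [ind_of_notMem h, zero_mul]
    refine Finset.sum_eq_zero fun φ hφ => ?_
    rw [classInner_irr_ne φ.2 χ.2 fun h' => h ((Subtype.ext h' : φ = χ) ▸ mem_bset.1 hφ), mul_zero]

variable (hM : IsPModular p M) {B : Set (IrrCharacter G)} (hB : IsPBlock M B)
include hM hB

theorem tr_blockE_mul (χ : IrrCharacter G) (x : RG hM G) :
    tr hM χ (toO hM (blockCoeff B) * x) = ind B χ * tr hM χ x := by
  rw [tr_eq, tr_eq, toC_mul, toC_toO hM (memRing_blockCoeff hM hB)]
  simp only [conv, Finset.sum_mul, Finset.mul_sum]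
  rw [Finset.sum_comm]
  have hω : omega (χ : G → ℂ) (blockCoeff B) = ind B χ := by rw [← cf_ind, omega_cf]
  calc ∑ h, ∑ g, blockCoeff B h * toC x (h⁻¹ * g) * (χ : G → ℂ) g
      = ∑ h, ∑ c, blockCoeff B h * toC x c * (χ : G → ℂ) (h * c) :=
        Finset.sum_congr rfl fun h _ => Fintype.sum_equiv (Equiv.mulLeft h⁻¹) _ _ fun g => by simp
    _ = ∑ c, toC x c * ∑ h, blockCoeff B h * (χ : G → ℂ) (h * c) := by
        rw [Finset.sum_comm]
        refine Finset.sum_congr rfl fun c _ => ?_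
        rw [Finset.mul_sum]
        exact Finset.sum_congr rfl fun h _ => by ring
    _ = ∑ c, ind B χ * (toC x c * (χ : G → ℂ) c) := Finset.sum_congr rfl fun c _ => by
        rw [sum_classFun_mul_shift (blockCoeff_isClassFunction B) χ c, hω]; ring

theorem blockE_idem : toO hM (blockCoeff B) * toO hM (blockCoeff B) = toO hM (blockCoeff B) := by
  classical
  refine toC_inj ?_
  rw [toC_mul, toC_toO hM (memRing_blockCoeff hM hB), ← cf_ind, ← cf_mul]
  congr 1
  funext χ
  by_cases h : χ ∈ B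
  · simp [ind_of_mem h]
  · simp [ind_of_notMem h]

theorem blockE_comm (x : RG hM G) : toO hM (blockCoeff B) * x = x * toO hM (blockCoeff B) := by
  refine toC_inj ?_
  rw [toC_mul, toC_mul, toC_toO hM (memRing_blockCoeff hM hB)]
  funext g
  simp only [conv]
  refine Fintype.sum_equiv ((Equiv.inv G).trans (Equiv.mulRight g)) _ _ fun h => ?_
  simp only [Equiv.trans_apply, Equiv.inv_apply, Equiv.coe_mulRight]
  have e : blockCoeff B ((h⁻¹ * g)⁻¹ * g) = blockCoeff B h := by
    rw [← classFun_eq_of_isConj (blockCoeff_isClassFunction B)]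
    exact isConj_iff.2 ⟨g⁻¹, by group⟩
  rw [e, mul_comm]

/-- The data attached to the projective indecomposable characters of a block. -/
theorem exists_lattice [Fact p.Prime] (g : ℕ) (hg0 : g ≠ 0)
    (hg1 : ∀ χ ∈ B, g ∣ charDegree (χ : G → ℂ))
    (hgp : g.factorization p = minDv p B) :
    ∃ v : ℕ, blockRank p B ≤ v ∧
      ∑ χ ∈ bset B, (charDegree (χ : G → ℂ) / g) ^ 2 = p ^ blockDefect p B * v := by
  classical
  obtain ⟨r, e, hee, hgen, hind, -⟩ := exists_tops hM G
  choose t ht using fun (l : Fin r) (χ : IrrCharacter G) => tr_nat (hM := hM) χ (hee l)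
  have huniq : ∀ c c' : Fin r → ℤ,
      (∀ χ : IrrCharacter G, ∑ l, (c l : ℂ) * tr hM χ (e l) = ∑ l, (c' l : ℂ) * tr hM χ (e l)) →
      c = c' := by
    intro c c' h
    refine sub_eq_zero.1 (hind _ fun χ => ?_)
    simp only [Pi.sub_apply, Int.cast_sub, sub_mul, Finset.sum_sub_distrib, h χ, sub_self]
  have hsingle : ∀ (l : Fin r) (χ : IrrCharacter G),
      ∑ l', ((Pi.single l 1 : Fin r → ℤ) l' : ℂ) * tr hM χ (e l') = tr hM χ (e l) := fun l χ => by
    rw [Finset.sum_eq_single l (fun l' _ h => by simp [h]) (by simp)]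
    simp
  set b := toO hM (blockCoeff B) with hb
  set S := Finset.univ.filter fun l => ∃ χ ∈ B, t l χ ≠ 0 with hS
  have hb1 : ∀ χ : IrrCharacter G, tr hM χ b = ind B χ * (χ : G → ℂ) 1 := fun χ => by
    rw [← mul_one b, hb, tr_blockE_mul hM hB, MonoidAlgebra.one_def, tr, tau_single, one_mul]
    rfl
  obtain ⟨Nb, hNb⟩ := hgen b (blockE_idem hM hB)
  -- each relevant idempotent lives in the block
  have hblock : ∀ l ∈ S, (∀ χ, χ ∉ B → t l χ = 0) ∧ 1 ≤ Nb l := by
    intro l hl
    obtain ⟨χ0, hχ0, ht0⟩ := (Finset.mem_filter.1 hl).2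
    have hbe : (b * e l) * (b * e l) = b * e l := by
      rw [mul_assoc, ← mul_assoc (e l), ← blockE_comm hM hB, mul_assoc, hee,
        ← mul_assoc, blockE_idem hM hB]
    have hebe : e l * (b * e l) = b * e l := by
      rw [← mul_assoc, ← blockE_comm hM hB, mul_assoc, hee]
    have hbee : b * e l * e l = b * e l := by rw [mul_assoc, hee]
    obtain ⟨N, hN⟩ := hgen _ hbe
    obtain ⟨N', hN'⟩ := hgen (e l - b * e l) (by
      rw [sub_mul, mul_sub, mul_sub, hee, hebe, hbee, hbe]; abel)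
    have hsum : ((fun l' => (N l' : ℤ) + N' l') : Fin r → ℤ) = Pi.single l 1 := huniq _ _ fun χ => by
      rw [hsingle, show tr hM χ (e l) = tr hM χ (b * e l) + tr hM χ (e l - b * e l) by
        rw [← tr_add, add_sub_cancel], hN, hN', ← Finset.sum_add_distrib]
      exact Finset.sum_congr rfl fun l' _ => by push_cast; ring
    have hoff : ∀ l', l' ≠ l → N l' = 0 := fun l' h => by
      have := congrFun hsum l'
      simp only [Pi.single_eq_of_ne h] at this
      omega
    have hone := congrFun hsum l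
    simp only [Pi.single_eq_same] at hone
    have hNχ : ∀ χ : IrrCharacter G, tr hM χ (b * e l) = (N l : ℂ) * tr hM χ (e l) := fun χ => by
      rw [hN, Finset.sum_eq_single l (fun l' _ h => by simp [hoff l' h]) (by simp)]
    have hN1 : N l = 1 := by
      by_contra h
      have h0 : N l = 0 := by omega
      have h1 := hNχ χ0
      rw [h0, hb, tr_blockE_mul hM hB, ind_of_mem hχ0, ht] at h1
      exact ht0 (by simpa using h1)
    refine ⟨fun χ hχ => ?_, ?_⟩
    · have h1 := hNχ χ
      rw [hN1, hb, tr_blockE_mul hM hB, ind_of_notMem hχ, ht] at h1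
      simpa using h1.symm
    · obtain ⟨N'', hN''⟩ := hgen (b - b * e l) (by
        have h1 : b * (b * e l) = b * e l := by rw [← mul_assoc, blockE_idem hM hB]
        have h2 : b * e l * b = b * e l := by rw [← blockE_comm hM hB, h1]
        rw [sub_mul, mul_sub, mul_sub, blockE_idem hM hB, h1, h2, hbe]; abel)
      have hsum' : ((fun l' => (N l' : ℤ) + N'' l') : Fin r → ℤ) = fun l' => (Nb l' : ℤ) :=
        huniq _ _ fun χ => by
          have hsplit : tr hM χ b = tr hM χ (b * e l) + tr hM χ (b - b * e l) := by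
            rw [← tr_add, add_sub_cancel]
          rw [hN, hN'', ← Finset.sum_add_distrib, hNb] at hsplit
          push_cast
          rw [hsplit]
          exact Finset.sum_congr rfl fun l' _ => by ring
      have := congrFun hsum' l
      omega
  -- the vector of reduced degrees
  set n : IrrCharacter G → ℕ := fun χ => charDegree (χ : G → ℂ) / g with hn
  have hgn : ∀ χ ∈ B, (g : ℂ) * (n χ : ℂ) = (χ : G → ℂ) 1 := fun χ hχ => by
    rw [← irr_charDegree_cast χ, ← Nat.cast_mul, Nat.mul_div_cancel' (hg1 χ hχ)]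
  set θ : G → ℂ := ∑ φ ∈ bset B, (n φ : ℂ) • (φ : G → ℂ) with hθ
  have hθg : IsGeneralizedCharacter G θ := isGenChar_sum _ _ fun φ _ => by
    simpa using isGenChar_intSmul (n φ : ℤ) (isGenChar_of_char (isCharacter_of_irr φ.2))
  have hθvan : ∀ x, p ∣ orderOf x → θ x = 0 := fun x hx => by
    have h := weak_orth hM hB (x := 1) (by simpa using hM.1.not_dvd_one) hx
    have h1 : (g : ℂ) * θ x = 0 := by
      rw [← h, hθ, Finset.sum_apply, Finset.mul_sum]
      refine Finset.sum_congr rfl fun φ hφ => ?_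
      rw [Pi.smul_apply, smul_eq_mul, ← mul_assoc, hgn φ (mem_bset.1 hφ)]
    exact (mul_eq_zero.1 h1).resolve_left (Nat.cast_ne_zero.2 hg0)
  obtain ⟨c, hc⟩ := good_of_vanish hgen hθg hθvan
  have hcχ : ∀ χ : IrrCharacter G, ∑ l, (c l : ℂ) * tr hM χ (e l) = ind B χ * (n χ : ℂ) := fun χ => by
    rw [← hc, hθ, classInner_comb]
  have hgc : (fun l => (g : ℤ) * c l) = fun l => (Nb l : ℤ) := huniq _ _ fun χ => by
    have h := (hb1 χ).symm.trans (hNb χ)
    push_cast
    rw [← h]
    simp only [mul_assoc, ← Finset.mul_sum, hcχ]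
    by_cases hχ : χ ∈ B
    · rw [ind_of_mem hχ, one_mul, one_mul, hgn χ hχ]
    · simp [ind_of_notMem hχ]
  have hcpos : ∀ l ∈ S, 1 ≤ c l := fun l hl => by
    have h1 : (g : ℤ) * c l = Nb l := congrFun hgc l
    have h2 := (hblock l hl).2
    nlinarith
  have hnS : ∀ χ ∈ B, (n χ : ℤ) = ∑ l ∈ S, c l * t l χ := fun χ hχ => by
    have h := hcχ χ
    rw [ind_of_mem hχ, one_mul] at h
    have e1 : ∑ l ∈ S, (c l : ℂ) * (t l χ : ℂ) = ∑ l, (c l : ℂ) * tr hM χ (e l) := by
      simp only [ht]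
      refine Finset.sum_subset (Finset.subset_univ S) fun l _ hl => ?_
      have : t l χ = 0 := by
        by_contra h0
        exact hl (Finset.mem_filter.2 ⟨Finset.mem_univ _, χ, hχ, h0⟩)
      simp [this]
    have : ((n χ : ℤ) : ℂ) = ((∑ l ∈ S, c l * (t l χ : ℤ) : ℤ) : ℂ) := by
      push_cast
      rw [← h, e1]
    exact_mod_cast this
  -- divisibility of the products with the projective characters
  set K : Fin r → ℕ := fun l => ∑ χ ∈ bset B, n χ * t l χ with hK
  have hKdvd : ∀ l ∈ S, p ^ blockDefect p B ∣ K l ∧ 0 < K l := by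
    intro l hl
    obtain ⟨R, hR, hpR, hRpos⟩ := deg_nat (hee l)
    have hne : e l ≠ 0 := by
      intro h0
      have := hind (Pi.single l 1) fun χ => by rw [hsingle, h0, tr_zero]
      simpa using congrFun this l
    have hRK : R = g * K l := by
      have : (R : ℂ) = ((g * K l : ℕ) : ℂ) := by
        rw [← hR, ← sum_deg_tr, hK]
        push_cast
        rw [Finset.mul_sum, ← Finset.sum_subset (Finset.subset_univ (bset B)) fun χ _ hχ => by
          rw [ht, (hblock l hl).1 χ (fun h => hχ (mem_bset.2 h)), Nat.cast_zero, mul_zero]]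
        refine Finset.sum_congr rfl fun χ hχ => ?_
        rw [ht, ← hgn χ (mem_bset.1 hχ)]; ring
      exact_mod_cast this
    have hR0 := hRpos hne
    rw [hRK] at hR0 hpR
    have hK0 : K l ≠ 0 := fun h => by rw [h, mul_zero] at hR0; exact lt_irrefl 0 hR0
    refine ⟨?_, Nat.pos_of_ne_zero hK0⟩
    rw [hM.1.pow_dvd_iff_le_factorization hK0]
    rw [hM.1.pow_dvd_iff_le_factorization (mul_ne_zero hg0 hK0),
      Nat.factorization_mul hg0 hK0, Finsupp.add_apply, hgp] at hpR
    rw [blockDefect_eq]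
    omega
  refine ⟨∑ l ∈ S, (c l).toNat * (K l / p ^ blockDefect p B), ?_, ?_⟩
  · -- the rank bound
    have hrank : blockRank p B ≤ S.card := by
      set Φ : Fin r → G → ℂ := fun l => ∑ ψ ∈ bset B, (t l ψ : ℂ) • (ψ : G → ℂ) with hΦ
      refine le_trans ?_ ((finrank_span_finset_le_card (R := ℂ) (S.image Φ)).trans Finset.card_image_le)
      unfold blockRank Set.finrank
      refine Submodule.finrank_mono (Submodule.span_le.2 ?_)
      rintro _ ⟨χ, hχ, rfl⟩
      obtain ⟨m, hm⟩ := RegularParts.regular_span hM hB (χ := (χ : G → ℂ))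
        ⟨fun φ => if φ = χ then 1 else 0, fun x => by
          rw [finsum_mem_bset, Finset.sum_eq_single χ (fun φ _ h => by simp [h])
            (fun h => absurd (mem_bset.2 hχ) h)]
          simp⟩
      set θ' : G → ℂ := ∑ ψ ∈ bset B, (m ψ : ℂ) • (ψ : G → ℂ) with hθ'
      have hθ'eq : θ' = (p : ℂ) ^ blockDefect p B • pRegularPart p (χ : G → ℂ) := by
        funext x
        rw [Pi.smul_apply, smul_eq_mul, hm x, finsum_mem_bset, hθ', Finset.sum_apply]
        rfl
      obtain ⟨c', hc'⟩ := good_of_vanish hgen (θ := θ') (isGenChar_sum _ _ fun φ _ => by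
          simpa using isGenChar_intSmul (m φ) (isGenChar_of_char (isCharacter_of_irr φ.2)))
        (fun x hx => by rw [hθ'eq]; simp [pRegularPart_apply, hx])
      have hexp : θ' = ∑ l ∈ S, (c' l : ℂ) • Φ l := by
        simp only [hΦ, Finset.smul_sum, smul_smul]
        rw [Finset.sum_comm, hθ']
        refine Finset.sum_congr rfl fun ψ hψ => ?_
        rw [← Finset.sum_smul]
        congr 1
        have h := hc' ψ
        rw [hθ', classInner_comb, ind_of_mem (mem_bset.1 hψ), one_mul] at h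
        rw [h]
        refine (Finset.sum_subset (Finset.subset_univ S) fun l _ hl => ?_).symm.trans
          (Finset.sum_congr rfl fun l _ => by rw [ht])
        have : t l ψ = 0 := by
          by_contra h0
          exact hl (Finset.mem_filter.2 ⟨Finset.mem_univ _, ψ, mem_bset.1 hψ, h0⟩)
        rw [ht, this, Nat.cast_zero, mul_zero]
      have hpd : (p : ℂ) ^ blockDefect p B ≠ 0 := pow_ne_zero _ (Nat.cast_ne_zero.2 hM.1.ne_zero)
      show pRegularPart p (χ : G → ℂ) ∈ Submodule.span ℂ ↑(S.image Φ)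
      rw [← inv_smul_smul₀ hpd (pRegularPart p (χ : G → ℂ)), ← hθ'eq, hexp]
      exact Submodule.smul_mem _ _ (Submodule.sum_mem _ fun l hl => Submodule.smul_mem _ _
        (Submodule.subset_span (Finset.mem_coe.2 (Finset.mem_image_of_mem Φ hl))))
    refine hrank.trans ?_
    rw [Finset.card_eq_sum_ones]
    refine Finset.sum_le_sum fun l hl => Nat.one_le_iff_ne_zero.2 (mul_ne_zero ?_ ?_)
    · have := hcpos l hl; omega
    · exact (Nat.div_pos (Nat.le_of_dvd (hKdvd l hl).2 (hKdvd l hl).1)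
        (pow_pos hM.1.pos _)).ne'
  · rw [Finset.mul_sum]
    have e1 : ∀ l ∈ S, p ^ blockDefect p B * ((c l).toNat * (K l / p ^ blockDefect p B)) =
        (c l).toNat * K l := fun l hl => by
      rw [mul_left_comm, Nat.mul_div_cancel' (hKdvd l hl).1]
    rw [Finset.sum_congr rfl e1]
    have : ((∑ χ ∈ bset B, n χ ^ 2 : ℕ) : ℤ) = ((∑ l ∈ S, (c l).toNat * K l : ℕ) : ℤ) := by
      simp only [hK]
      push_cast
      rw [Finset.sum_congr (s₁ := S) rfl fun l hl => by rw [Int.toNat_of_nonneg (by have := hcpos l hl; omega : (0 : ℤ) ≤ c l)]]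
      simp only [Finset.mul_sum]
      rw [Finset.sum_comm]
      refine Finset.sum_congr rfl fun χ hχ => ?_
      rw [sq]
      conv_lhs => arg 2; rw [hnS χ (mem_bset.1 hχ)]
      rw [Finset.mul_sum]
      exact Finset.sum_congr rfl fun l _ => by ring
    exact_mod_cast this

/-- The reduced sum of squares is prime to `p`. -/
theorem not_dvd_reduced_sum [Fact p.Prime] (g : ℕ) (hg0 : g ≠ 0)
    (hg1 : ∀ χ ∈ B, g ∣ charDegree (χ : G → ℂ)) (hgp : g.factorization p = minDv p B)
    {v : ℕ} (hv : ∑ χ ∈ bset B, (charDegree (χ : G → ℂ) / g) ^ 2 = p ^ blockDefect p B * v) :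
    ¬ p ∣ v := by
  classical
  intro hpv
  haveI := res_isDomain hM
  haveI := res_charP hM
  set d := blockDefect p B with hd
  set a := (Nat.card G).factorization p with ha
  set n : IrrCharacter G → ℕ := fun χ => charDegree (χ : G → ℂ) / g with hn
  have hgn : ∀ χ ∈ B, (g : ℂ) * (n χ : ℂ) = (χ : G → ℂ) 1 := fun χ hχ => by
    rw [← irr_charDegree_cast χ, ← Nat.cast_mul, Nat.mul_div_cancel' (hg1 χ hχ)]
  have hgC : (g : ℂ) ≠ 0 := Nat.cast_ne_zero.2 hg0
  have hGC : (Nat.card G : ℂ) ≠ 0 := Nat.cast_ne_zero.2 Nat.card_pos.ne'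
  have hpd : (p : ℂ) ^ d ≠ 0 := pow_ne_zero _ (Nat.cast_ne_zero.2 hM.1.ne_zero)
  have hfac : (g * p ^ d).factorization p = a := by
    rw [Nat.factorization_mul hg0 (pow_ne_zero _ hM.1.ne_zero), Finsupp.add_apply, hgp,
      Nat.Prime.factorization_pow hM.1, Finsupp.single_eq_same, hd, blockDefect_eq]
    have := minDv_le_card hM hB
    omega
  set u : ℂ := ((g * p ^ d : ℕ) : ℂ) / (Nat.card G : ℂ) with hu
  have humem : MemLocalRing M u :=
    (natDiv_mem_loc hM (mul_ne_zero hg0 (pow_ne_zero _ hM.1.ne_zero)) Nat.card_pos.ne' hfac.ge).1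
  set θ : G → ℂ := ∑ φ ∈ bset B, (n φ : ℂ) • (φ : G → ℂ) with hθ
  have hθg : ∀ x, (g : ℂ) * θ x = ∑ φ ∈ bset B, (φ : G → ℂ) 1 * (φ : G → ℂ) x := fun x => by
    rw [hθ, Finset.sum_apply, Finset.mul_sum]
    refine Finset.sum_congr rfl fun φ hφ => ?_
    rw [Pi.smul_apply, smul_eq_mul, ← mul_assoc, hgn φ (mem_bset.1 hφ)]
  have hθvan : ∀ x, p ∣ orderOf x → θ x = 0 := fun x hx => by
    have h1 : (g : ℂ) * θ x = 0 := by
      rw [hθg, weak_orth hM hB (x := 1) (by simpa using hM.1.not_dvd_one) hx]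
    exact (mul_eq_zero.1 h1).resolve_left hgC
  have hθloc : ∀ x, MemLocalRing M (θ x / (p : ℂ) ^ d) := fun x => by
    have e : θ x / (p : ℂ) ^ d =
        (Nat.card G : ℂ) / ((g * p ^ d : ℕ) : ℂ) * blockCoeff B x⁻¹ := by
      have h := hθg x
      have hb : blockCoeff B x⁻¹ = (Nat.card G : ℂ)⁻¹ * ((g : ℂ) * θ x) := by
        rw [h, blockCoeff, finsum_mem_bset]
        simp only [irr_conjInv, inv_inv]
      rw [hb]
      push_cast
      field_simp
    rw [e]
    exact (loc hM).mul_mem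
      (natDiv_mem_loc hM Nat.card_pos.ne' (mul_ne_zero hg0 (pow_ne_zero _ hM.1.ne_zero)) hfac.le).1
      (memRing_blockCoeff hM hB _)
  -- section functions
  set m := Nat.card G / p ^ a with hm
  have hmn : Nat.card G = p ^ a * m := (Nat.ordProj_mul_ordCompl_eq_self _ _).symm
  have hpm : ¬ p ∣ m := Nat.not_dvd_ordCompl hM.1 Nat.card_pos.ne'
  have hcop : Nat.Coprime (p ^ a) m := (hM.1.coprime_iff_not_dvd.2 hpm).pow_left _
  have hm0 : (m : ℂ) ≠ 0 := Nat.cast_ne_zero.2 fun h => hpm (h ▸ dvd_zero p)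
  set reg := (Finset.univ : Finset (ConjClasses G)).filter fun C => ¬ p ∣ orderOf (crep C) with hreg
  set ϑ : ConjClasses G → G → ℂ := fun C x =>
    if InSection (p ^ a) m (crep C) x then (m : ℂ) else 0 with hϑ
  have hϑcl : ∀ C, IsClassFunction G (ϑ C) := fun C x k => by
    simp only [hϑ]
    by_cases h : InSection (p ^ a) m (crep C) x
    · rw [if_pos h, if_pos (inSection_conj h k)]
    · rw [if_neg h, if_neg fun h' => h (by simpa [mul_assoc] using inSection_conj h' k⁻¹)]
  have hϑreg : ∀ C ∈ reg, ∀ x, ¬ p ∣ orderOf x →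
      ϑ C x = if ConjClasses.mk x = C then (m : ℂ) else 0 := by
    intro C hC x hx
    simp only [hϑ]
    refine if_congr ⟨?_, ?_⟩ rfl rfl
    · rintro ⟨v, hv, w, rfl, hcw, hw, hvo⟩
      have hw1 : w = 1 := by
        refine orderOf_eq_one_iff.1 (Nat.eq_one_of_dvd_coprimes
          (hcop : Nat.Coprime (p ^ a) m) ?_ ?_)
        · exact Nat.Coprime.dvd_of_dvd_mul_right hw (hmn ▸ orderOf_dvd_natCard w)
        · have hwv : orderOf w ∣ orderOf (w * v) := by
            have hd' : orderOf w ∣ p ^ a :=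
              Nat.Coprime.dvd_of_dvd_mul_right hw (hmn ▸ orderOf_dvd_natCard w)
            rw [hcw.orderOf_mul_eq_mul_orderOf_of_coprime
              ((hvo.symm.coprime_dvd_left hd'))]
            exact dvd_mul_right _ _
          exact Nat.Coprime.dvd_of_dvd_mul_left
            (((hM.1.coprime_iff_not_dvd.2 fun h => hx (h.trans hwv)).symm).pow_right _)
            (hmn ▸ orderOf_dvd_natCard w)
      rw [hw1, one_mul, ← mk_crep C]
      exact ConjClasses.mk_eq_mk_iff_isConj.2 hv
    · intro h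
      refine ⟨x, ?_, 1, (one_mul x).symm, Commute.one_left x, by simp, ?_⟩
      · exact ConjClasses.mk_eq_mk_iff_isConj.1 (h.trans (mk_crep C).symm)
      · exact ((hM.1.coprime_iff_not_dvd.2 hx).symm).pow_right _
  set r : IrrCharacter G → ℂ := fun χ => ∑ C ∈ reg,
    θ (crep C) / (p : ℂ) ^ d * ((m : ℂ)⁻¹ * classInner (ϑ C) (χ : G → ℂ)) with hr
  have hrmem : ∀ χ, MemLocalRing M (r χ) := fun χ => memRing_sum hM fun C _ =>
    (loc hM).mul_mem (hθloc _) ((loc hM).mul_mem (natCast_inv_mem hM hpm)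
      (memRing_of_isIntegral hM (isIntegral_classInner_section hmn hcop (crep C)
        (fun x hx => if_pos hx) (fun x hx => if_neg hx) χ.2)))
  have hrsum : ∀ x, ¬ p ∣ orderOf x →
      ∑ χ : IrrCharacter G, r χ * (χ : G → ℂ) x = θ x / (p : ℂ) ^ d := by
    intro x hx
    have hC : ConjClasses.mk x ∈ reg := Finset.mem_filter.2 ⟨Finset.mem_univ _, fun h => hx (by
      obtain ⟨t, ht⟩ := isConj_iff.1 (isConj_crep x)
      have he : orderOf x = orderOf (crep (ConjClasses.mk x)) := by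
        conv_lhs => rw [← ht]
        exact orderOf_injective (MulAut.conj t).toMonoidHom (MulAut.conj t).injective _
      rwa [he])⟩
    simp only [hr, Finset.sum_mul]
    rw [Finset.sum_comm]
    have e : ∀ C ∈ reg, ∑ χ : IrrCharacter G, θ (crep C) / (p : ℂ) ^ d *
        ((m : ℂ)⁻¹ * classInner (ϑ C) (χ : G → ℂ)) * (χ : G → ℂ) x =
        θ (crep C) / (p : ℂ) ^ d * ((m : ℂ)⁻¹ * ϑ C x) := fun C _ => by
      conv_rhs => rw [eq_sum_irr (hϑcl C), Finset.sum_apply, Finset.mul_sum, Finset.mul_sum]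
      exact Finset.sum_congr rfl fun χ _ => by rw [Pi.smul_apply, smul_eq_mul]; ring
    rw [Finset.sum_congr rfl e, Finset.sum_eq_single (ConjClasses.mk x)]
    · rw [hϑreg _ hC x hx, if_pos rfl, inv_mul_cancel₀ hm0, mul_one]
      congr 1
      refine (classFun_eq_of_isConj ?_ (ConjClasses.mk_eq_mk_iff_isConj.1 (mk_crep _).symm)).symm
      intro a b
      simp only [hθ, Finset.sum_apply, Pi.smul_apply]
      exact Finset.sum_congr rfl fun φ _ => by rw [irr_isClassFun φ]
    · intro C hC' hne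
      rw [hϑreg C hC' x hx, if_neg hne.symm, mul_zero, mul_zero]
    · exact fun h => absurd hC h
  have hGθ : ∀ ψ ∈ B, ∑ x, regFn p (ψ : G → ℂ) x * θ x = (Nat.card G : ℂ) * (n ψ : ℂ) := by
    intro ψ hψ
    have h := classInner_comb B (fun φ => (n φ : ℂ)) ψ
    rw [ind_of_mem hψ, one_mul, ← hθ, classInner] at h
    rw [← h, ← mul_assoc, mul_inv_cancel₀ hGC, one_mul]
    refine Finset.sum_congr rfl fun x _ => ?_
    by_cases hx : p ∣ orderOf x
    · simp [hθvan x hx]
    · simp only [regFn, if_neg hx, irr_conjInv]; ring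
  have hqr : ∀ ψ ∈ B, ∑ χ ∈ bset B, regS p (χ : G → ℂ) (ψ : G → ℂ) * r χ =
      (Nat.card G : ℂ) * (n ψ : ℂ) / (p : ℂ) ^ d := by
    intro ψ hψ
    rw [Finset.sum_subset (Finset.subset_univ (bset B)) fun χ _ hχ => by
      rw [regS_eq_zero hM fun h => hχ (mem_bset.2 (by
        rw [eq_blockOf hM hB hψ]; exact sameBlock_symm hM h)), zero_mul]]
    simp only [regS, Finset.sum_mul]
    rw [Finset.sum_comm, ← hGθ ψ hψ, Finset.sum_div]
    refine Finset.sum_congr rfl fun x _ => ?_
    rw [Finset.sum_congr rfl fun (χ : IrrCharacter G) _ => show regFn p (ψ : G → ℂ) x * (χ : G → ℂ) x * r χ =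
      regFn p (ψ : G → ℂ) x * (r χ * (χ : G → ℂ) x) by ring, ← Finset.mul_sum]
    by_cases hx : p ∣ orderOf x
    · simp [regFn, hx]
    · rw [hrsum x hx, mul_div_assoc]
  -- the product with `r` is the reduced sum
  have hvr : (v : ℂ) = ∑ χ ∈ bset B, r χ * (n χ : ℂ) := by
    have hsq : (p : ℂ) ^ d * (v : ℂ) = ∑ ψ ∈ bset B, (n ψ : ℂ) * (n ψ : ℂ) := by
      rw [← Nat.cast_pow, ← Nat.cast_mul, ← hv]
      push_cast
      exact Finset.sum_congr rfl fun ψ _ => sq _
    refine mul_left_cancel₀ hpd (hsq.trans ?_)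
    refine mul_left_cancel₀ (mul_ne_zero hgC hGC) ?_
    rw [Finset.mul_sum, Finset.mul_sum, Finset.mul_sum]
    calc ∑ ψ ∈ bset B, (g : ℂ) * (Nat.card G : ℂ) * ((n ψ : ℂ) * (n ψ : ℂ))
        = ∑ ψ ∈ bset B, ∑ χ ∈ bset B,
            (p : ℂ) ^ d * (regS p (χ : G → ℂ) (ψ : G → ℂ) * (ψ : G → ℂ) 1) * r χ :=
          Finset.sum_congr rfl fun ψ hψ => by
            have h := hqr ψ (mem_bset.1 hψ)
            rw [eq_div_iff hpd] at h
            rw [← hgn ψ (mem_bset.1 hψ)]
            calc (g : ℂ) * (Nat.card G : ℂ) * ((n ψ : ℂ) * (n ψ : ℂ))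
                = (g : ℂ) * (n ψ : ℂ) * ((Nat.card G : ℂ) * (n ψ : ℂ)) := by ring
              _ = _ := by
                rw [← h, Finset.sum_mul, Finset.mul_sum]
                exact Finset.sum_congr rfl fun χ _ => by ring
      _ = ∑ χ ∈ bset B, (g : ℂ) * (Nat.card G : ℂ) * ((p : ℂ) ^ d * (r χ * (n χ : ℂ))) := by
          rw [Finset.sum_comm]
          refine Finset.sum_congr rfl fun χ hχ => ?_
          rw [← Finset.sum_mul, ← Finset.mul_sum, sum_regS_mul hM hB χ 1,
            if_neg (by simpa using hM.1.not_dvd_one), ind_of_mem (mem_bset.1 hχ),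
            ← hgn χ (mem_bset.1 hχ)]
          ring
  obtain ⟨ψ, hψ, h0⟩ := exists_height_zero hM hB
  have hn0 : ¬ p ∣ n ψ := by
    intro hdiv
    have hne : n ψ ≠ 0 := by
      intro h
      have h1 := hgn ψ hψ
      rw [h, Nat.cast_zero, mul_zero] at h1
      exact irr_one_ne_zero ψ h1.symm
    have h1 : (charDegree (ψ : G → ℂ)).factorization p = g.factorization p + (n ψ).factorization p := by
      conv_lhs => rw [← Nat.mul_div_cancel' (hg1 ψ hψ)]
      rw [Nat.factorization_mul hg0 hne, Finsupp.add_apply]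
    have h2 := hM.1.factorization_pos_of_dvd hne hdiv
    rw [show (charDegree (ψ : G → ℂ)).factorization p = dv p (ψ : G → ℂ) from rfl, h0, hgp] at h1
    omega
  apply hn0
  rw [← CharP.cast_eq_zero_iff (AlgInt ⧸ M) p, ← res_natCast hM]
  -- expansion
  set w : IrrCharacter G → ℂ := fun χ => omega (χ : G → ℂ) (regFn p (ψ : G → ℂ)) with hw
  have hexp : (n ψ : ℂ) = ∑ χ ∈ bset B, u * w χ * ((n χ : ℂ) * r χ) := by
    have h := hqr ψ hψ
    refine mul_left_cancel₀ hGC ?_
    rw [eq_div_iff hpd] at h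
    rw [← h, Finset.sum_mul, Finset.mul_sum]
    refine Finset.sum_congr rfl fun χ hχ => ?_
    rw [hw]
    simp only [omega_regFn, hu]
    rw [← hgn χ (mem_bset.1 hχ)]
    have : (n χ : ℂ) ≠ 0 := fun h' => irr_one_ne_zero χ (by rw [← hgn χ (mem_bset.1 hχ), h', mul_zero])
    push_cast
    field_simp
  have hwmem : ∀ χ, MemLocalRing M (w χ) := fun χ => memRing_omega_regFn hM χ ψ
  rw [hexp, res_sum hM fun χ _ => (loc hM).mul_mem ((loc hM).mul_mem humem (hwmem χ))
    ((loc hM).mul_mem (memRing_natCast hM _) (hrmem χ))]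
  rw [Finset.sum_congr rfl fun χ hχ => show res hM (u * w χ * ((n χ : ℂ) * r χ)) =
      res hM u * res hM (w ψ) * res hM (r χ * (n χ : ℂ)) by
    rw [res_mul hM ((loc hM).mul_mem humem (hwmem χ))
      ((loc hM).mul_mem (memRing_natCast hM _) (hrmem χ)), res_mul hM humem (hwmem χ),
      res_omega_regFn_congr hM (sameBlock_of_mem hM hB (mem_bset.1 hχ) hψ) ψ, mul_comm (r χ)],
    ← Finset.mul_sum, ← res_sum hM fun χ _ => (loc hM).mul_mem (hrmem χ) (memRing_natCast hM _),
    ← hvr, res_natCast, (CharP.cast_eq_zero_iff (AlgInt ⧸ M) p v).2 hpv, mul_zero]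

theorem main [Fact p.Prime] (D : Subgroup G) (hD : IsDefectGroup p M B D) (a d : ℕ)
    (ha : (Nat.card G).factorization p = a) (hd : Nat.card D = p ^ d) (g : ℕ)
    (hg1 : ∀ χ ∈ B, g ∣ charDegree (χ : G → ℂ))
    (hg2 : ∀ g' : ℕ, (∀ χ ∈ B, g' ∣ charDegree (χ : G → ℂ)) → g' ∣ g) :
    g.factorization p = a - d ∧ ∃ v : ℕ, 0 < v ∧ ¬ p ∣ v ∧ blockRank p B ≤ v ∧
      ∑ᶠ χ ∈ B, charDegree (χ : G → ℂ) ^ 2 =
        p ^ (2 * a - d) * (g / p ^ (a - d)) ^ 2 * v := by
  classical
  subst ha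
  set a := (Nat.card G).factorization p with ha
  obtain ⟨x, hx, P, rfl⟩ := hD
  have hdd : blockDefect p B = d := by
    rw [Subgroup.card_map_of_injective (Subgroup.subtype_injective _), P.card_eq_multiplicity] at hd
    rw [blockDefect_eq_centralizer hM hB hx]
    exact Nat.pow_right_injective hM.1.two_le hd
  obtain ⟨χ, hχ, h0⟩ := exists_height_zero hM hB
  have hg0 : g ≠ 0 := fun h =>
    (irr_charDegree_pos χ).ne' (zero_dvd_iff.1 (h ▸ hg1 χ hχ))
  have hgp : g.factorization p = minDv p B := by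
    refine le_antisymm ?_ ((hM.1.pow_dvd_iff_le_factorization hg0).1 (hg2 _ fun φ hφ =>
      (hM.1.pow_dvd_iff_le_factorization (irr_charDegree_pos φ).ne').2 (minDv_le hφ)))
    rw [← h0]
    exact (Nat.factorization_le_iff_dvd hg0 (irr_charDegree_pos χ).ne').2 (hg1 χ hχ) p
  have hle := minDv_le_card hM hB
  rw [← ha] at hle
  rw [blockDefect_eq, ← ha] at hdd
  have hga : g.factorization p = a - d := by rw [hgp]; omega
  obtain ⟨v, hvl, hv⟩ := exists_lattice hM hB g hg0 hg1 hgp
  have hnd := not_dvd_reduced_sum hM hB g hg0 hg1 hgp hv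
  refine ⟨hga, v, Nat.pos_of_ne_zero fun h => hnd (h ▸ dvd_zero p), hnd, hvl, ?_⟩
  have hg : g = p ^ (a - d) * (g / p ^ (a - d)) := by
    rw [← hga]; exact (Nat.ordProj_mul_ordCompl_eq_self g p).symm
  rw [finsum_mem_eq_finite_toFinset_sum _ B.toFinite]
  change ∑ χ ∈ bset B, charDegree (χ : G → ℂ) ^ 2 = _
  rw [Finset.sum_congr rfl fun (φ : IrrCharacter G) hφ => show charDegree (φ : G → ℂ) ^ 2 =
      g ^ 2 * (charDegree (φ : G → ℂ) / g) ^ 2 by
    rw [← mul_pow, Nat.mul_div_cancel' (hg1 φ (mem_bset.1 hφ))], ← Finset.mul_sum, hv,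
    blockDefect_eq, ← ha, hdd]
  conv_lhs => rw [hg, mul_pow, ← pow_mul]
  rw [show 2 * a - d = (a - d) * 2 + d by omega, pow_add]
  ring

end CfsgLib.BlockDegreeSquares
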