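import Cfsg.Agent.Lib.Blocks.Star.Inst
import Cfsg.Agent.Lib.Blocks.Star.Rel
import Cfsg.Agent.Lib.Blocks.SmallAlgebra
import Cfsg.Agent.Lib.Blocks.BlockAlgebra

/-!
# Characters of idempotents of the group algebra over the local ring

The lifts of the diagonal matrix units of the semisimple top give a basis over the integers of
the functions `χ ↦ χ x`, `x` an idempotent.
-/

namespace CfsgLib.BlockDegreeSquares

open Cfsg CfsgLib.CharTheory CfsgLib.Blocks CfsgLib.Blocks.Star
open MonoidAlgebra (single)
open scoped ComplexConjugate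

set_option linter.unusedVariables false
set_option linter.unusedSectionVars false
set_option linter.style.haveILetI false

universe u

section generic

variable {O k : Type*} [CommRing O] [Field k] {A : Type*} [Ring A] [Algebra O A] {S : Type*} [Ring S]

theorem equiv_lift (D : LocRed O k) (φ : A →+* S)
    (hφ : ∀ a, D.r a = 0 → φ (algebraMap O A a) = 0)
    (hdet : ∀ e, e * e = e → φ e = 0 → e = 0) (hint : ∀ a : A, IsIntegral O a)
    {j e a b : A} (hj : j * j = j) (he : e * e = e) (hab : φ (a * b) = φ j)
    (hba : φ (b * a) = φ e) : ∃ a' b' : A, a' * b' = j ∧ b' * a' = e := by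
  set a1 := j * a * e with ha1
  set b1 := e * b * j with hb1
  have hP : φ j * φ j = φ j := by rw [← map_mul, hj]
  have hE : φ e * φ e = φ e := by rw [← map_mul, he]
  rw [map_mul] at hab hba
  have hw1 : φ (a1 * b1) = φ j := by
    simp only [ha1, hb1, map_mul]
    calc φ j * φ a * φ e * (φ e * φ b * φ j) = φ j * φ a * (φ e * φ e) * φ b * φ j := by noncomm_ring
      _ = φ j * φ a * (φ b * φ a) * φ b * φ j := by rw [hE, hba]
      _ = φ j * (φ a * φ b) * (φ a * φ b) * φ j := by noncomm_ring
      _ = φ j := by rw [hab, hP, hP, hP]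
  have hjw : j * (a1 * b1) = a1 * b1 := by simp only [ha1, ← mul_assoc, hj]
  have hwj : a1 * b1 * j = a1 * b1 := by simp only [hb1, mul_assoc, hj]
  obtain ⟨z, hjz, hzj, hwz, hzw⟩ := inv_corner D φ hφ hdet (hint _) hj hjw hwj hw1
  have hz : φ z = φ j := by
    calc φ z = φ (j * z) := by rw [hjz]
      _ = φ (a1 * b1 * z) := by rw [map_mul, map_mul (f := φ) (a1 * b1) z, hw1]
      _ = φ j := by rw [hwz]
  set b2 := b1 * z with hb2
  have h1 : a1 * b2 = j := by rw [hb2, ← mul_assoc, hwz]
  have hja : j * a1 = a1 := by simp only [ha1, ← mul_assoc, hj]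
  set h := b2 * a1 with hh
  have hhh : h * h = h := by
    rw [hh, mul_assoc, ← mul_assoc a1, h1, hja]
  have heh : e * h = h := by simp only [hh, hb2, hb1, ← mul_assoc, he]
  have hhe : h * e = h := by simp only [hh, ha1, mul_assoc, he]
  have hφh : φ h = φ e := by
    simp only [hh, hb2, map_mul, hz, hb1, ha1]
    calc φ e * φ b * φ j * φ j * (φ j * φ a * φ e)
        = φ e * φ b * (φ j * φ j * φ j) * φ a * φ e := by noncomm_ring
      _ = φ e * φ b * (φ a * φ b) * φ a * φ e := by rw [hP, hP, hab]
      _ = φ e * (φ b * φ a) * (φ b * φ a) * φ e := by noncomm_ring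
      _ = φ e := by rw [hba, hE, hE, hE]
  refine ⟨a1, b2, h1, ?_⟩
  have h0 : e - h = 0 := hdet _
    (by rw [sub_mul, mul_sub, mul_sub, he, heh, hhe, hhh]; abel) (by rw [map_sub, hφh, sub_self])
  exact (sub_eq_zero.1 h0).symm

end generic

variable {p : ℕ} {M : Ideal AlgInt} {G : Type u} [Group G] [Fintype G]

/-- The group algebra over the local ring. -/
abbrev RG (hM : IsPModular p M) (G : Type u) [Group G] := MonoidAlgebra (loc hM) G

/-- An irreducible character with values in the local ring. -/
noncomputable def chiO (hM : IsPModular p M) (χ : IrrCharacter G) : G → loc hM :=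
  fun g => ⟨(χ : G → ℂ) g, memRing_irr hM χ g⟩

/-- The value of a character at an element of the group algebra. -/
noncomputable def tr (hM : IsPModular p M) (χ : IrrCharacter G) (x : RG hM G) : ℂ :=
  ((tau (chiO hM χ) x : loc hM) : ℂ)

variable {hM : IsPModular p M}

theorem tr_eq (χ : IrrCharacter G) (x : RG hM G) :
    tr hM χ x = ∑ g, toC x g * (χ : G → ℂ) g := by
  show (loc hM).subtype (∑ g, x.coeff g * chiO hM χ g) = _
  rw [map_sum]
  rfl

theorem tr_add (χ : IrrCharacter G) (x y : RG hM G) :
    tr hM χ (x + y) = tr hM χ x + tr hM χ y := by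
  simp [tr]

theorem tr_zero (χ : IrrCharacter G) : tr hM χ (0 : RG hM G) = 0 := by simp [tr]

theorem tr_mul_comm (χ : IrrCharacter G) (x y : RG hM G) :
    tr hM χ (x * y) = tr hM χ (y * x) := by
  unfold tr
  rw [tau_mul_comm fun g h => Subtype.ext (irr_isClassFun χ g h)]

theorem tr_nat (χ : IrrCharacter G) {x : RG hM G} (hx : x * x = x) :
    ∃ n : ℕ, tr hM χ x = n := by
  obtain ⟨n, ρ, -, hρ⟩ := χ.2
  let ρA : RG hM G →+* Module.End ℂ (Fin n → ℂ) :=
    ρ.asAlgebraHom.toRingHom.comp (MonoidAlgebra.mapRingHom G (loc hM).subtype)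
  have hρA : ∀ g a, ρA (single g a) = (a : ℂ) • ρ g := fun g a => by
    show ρ.asAlgebraHom (MonoidAlgebra.mapRingHom G (loc hM).subtype (single g a)) = _
    rw [show MonoidAlgebra.mapRingHom G (loc hM).subtype (single g a) = single g (a : ℂ) from
      MonoidAlgebra.map_single _ _ _, Representation.asAlgebraHom_single]
  have htr : ∀ z, LinearMap.trace ℂ _ (ρA z) = tr hM χ z := by
    intro z
    induction z using MonoidAlgebra.induction_linear with
    | zero => simp [tr_zero]
    | add a b ha hb => simp only [map_add, ha, hb, tr_add]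
    | single g a =>
      rw [hρA, map_smul, tr, tau_single, smul_eq_mul]
      show (a : ℂ) * _ = ((a * chiO hM χ g : loc hM) : ℂ)
      rw [Subring.coe_mul]
      congr 1
      exact congrFun hρ g
  have hid : IsIdempotentElem (ρA x) := by rw [IsIdempotentElem, ← map_mul, hx]
  obtain ⟨q, hq⟩ := (LinearMap.isProj_iff_isIdempotentElem _).2 hid
  exact ⟨_, (htr x).symm.trans hq.trace⟩

theorem sum_irr_one_mul [DecidableEq G] (g : G) :
    ∑ χ : IrrCharacter G, (χ : G → ℂ) 1 * (χ : G → ℂ) g =
      if g = 1 then (Nat.card G : ℂ) else 0 := by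
  classical
  have h := sum_irr_mul_conj g 1
  simp only [irr_one_conj] at h
  rw [Finset.sum_congr rfl fun χ _ => mul_comm _ _, h]
  by_cases hg : g = 1
  · subst hg
    rw [if_pos (IsConj.refl _), if_pos rfl]
    have : Subgroup.centralizer ({1} : Set G) = ⊤ :=
      eq_top_iff.2 fun x _ => Subgroup.mem_centralizer_singleton_iff.2 (by simp)
    rw [this, Subgroup.card_top]
  · rw [if_neg hg, if_neg fun hc => hg (isConj_one_right.1 hc.symm)]

theorem sum_deg_tr (x : RG hM G) :
    ∑ χ : IrrCharacter G, (χ : G → ℂ) 1 * tr hM χ x = (Nat.card G : ℂ) * toC x 1 := by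
  classical
  simp only [tr_eq, Finset.mul_sum]
  rw [Finset.sum_comm, Finset.sum_congr rfl fun g _ => show
    (∑ χ : IrrCharacter G, (χ : G → ℂ) 1 * (toC x g * (χ : G → ℂ) g)) =
      toC x g * (if g = 1 then (Nat.card G : ℂ) else 0) by
    rw [← sum_irr_one_mul g, Finset.mul_sum]
    exact Finset.sum_congr rfl fun χ _ => by ring]
  simp [mul_comm]

theorem deg_nat [Fact p.Prime] {x : RG hM G} (hx : x * x = x) :
    ∃ r : ℕ, (Nat.card G : ℂ) * toC x 1 = (r : ℂ) ∧ p ^ (Nat.card G).factorization p ∣ r ∧
      (x ≠ 0 → 0 < r) := by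
  classical
  haveI := hM.2.1
  letI := kField hM
  haveI := res_charP hM
  set f := toC x with hf
  set T : Matrix G G ℂ := Matrix.of fun a c => f (c⁻¹ * a) with hT
  have hT2 : T * T = T := by
    ext a b
    simp only [Matrix.mul_apply, hT, Matrix.of_apply]
    conv_rhs => rw [hf, ← hx, toC_mul]
    simp only [conv, ← hf]
    refine Fintype.sum_equiv (Equiv.mulLeft b⁻¹) _ _ fun c => ?_
    simp only [Equiv.coe_mulLeft, mul_inv_rev, inv_inv]
    rw [mul_comm, mul_assoc c⁻¹ b, mul_inv_cancel_left]
  have htr : T.trace = (Nat.card G : ℂ) * f 1 := by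
    simp [Matrix.trace, hT, Nat.card_eq_fintype_card]
  choose r hr using fun χ : IrrCharacter G => tr_nat (hM := hM) χ hx
  set R := ∑ χ : IrrCharacter G, charDegree (χ : G → ℂ) * r χ with hR
  have hRf : (Nat.card G : ℂ) * f 1 = (R : ℂ) := by
    rw [← sum_deg_tr, hR]
    push_cast
    exact Finset.sum_congr rfl fun χ _ => by rw [hr, irr_charDegree_cast]
  obtain ⟨-, hrank⟩ := res_rank hM T (fun a c => (x.coeff (c⁻¹ * a)).2) hT2 R (htr.trans hRf)
  set D := locRed hM
  set xb := red D x with hxb
  have hidem : IsIdempotentElem xb := by rw [IsIdempotentElem, hxb, ← map_mul, hx]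
  set Φ : MonoidAlgebra (AlgInt ⧸ M) G ≃ₗ[AlgInt ⧸ M] (G → AlgInt ⧸ M) :=
    (MonoidAlgebra.coeffLinearEquiv _).trans (Finsupp.linearEquivFunOnFinite _ _ _)
  have hΦ : ∀ y, Φ (y * xb) = Matrix.toLin' (T.map (res hM)) (Φ y) := by
    intro y
    funext a
    show (y * xb).coeff a = Matrix.mulVec (T.map (res hM)) (fun c => y.coeff c) a
    rw [coeff_mul_sum, Matrix.mulVec, dotProduct]
    refine Finset.sum_congr rfl fun c _ => ?_
    rw [hxb, coeff_red, mul_comm]
    rfl
  have hrange : (LinearMap.range (LinearMap.mulRight (AlgInt ⧸ M) xb)).map Φ.toLinearMap =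
      LinearMap.range (Matrix.toLin' (T.map (res hM))) := by
    apply le_antisymm
    · rintro _ ⟨_, ⟨y, rfl⟩, rfl⟩
      exact ⟨Φ y, (hΦ y).symm⟩
    · rintro _ ⟨v, rfl⟩
      exact ⟨Φ.symm v * xb, ⟨Φ.symm v, rfl⟩, (hΦ _).trans (by rw [Φ.apply_symm_apply])⟩
  have hfr : Module.finrank (AlgInt ⧸ M)
      (LinearMap.range (LinearMap.mulRight (AlgInt ⧸ M) xb)) = R := by
    rw [← LinearEquiv.finrank_map_eq Φ, hrange, hrank]
  refine ⟨R, hRf, ?_, fun hx0 => ?_⟩
  · have h := card_dvd_finrank_mulRight (k := AlgInt ⧸ M) (p := p)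
      ((default : Sylow p G) : Subgroup G) (default : Sylow p G).isPGroup' xb hidem
    rw [hfr, Sylow.card_eq_multiplicity] at h
    exact h
  · rw [← hfr]
    refine Nat.pos_of_ne_zero fun h0 => hx0 (idem_eq_zero D hx ?_)
    rw [Submodule.finrank_eq_zero, LinearMap.range_eq_bot] at h0
    have h1 := LinearMap.congr_fun h0 1
    simpa using h1

theorem card_factors_le [Fact p.Prime] {k : Type*} [Field k] [CharP k p] {r : ℕ} {d : Fin r → ℕ}
    [∀ l, NeZero (d l)]
    (π : MonoidAlgebra k G →ₐ[k] Π l, Matrix (Fin (d l)) (Fin (d l)) k)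
    (E : Fin r → MonoidAlgebra k G) (hE : ∀ l, π (E l) = unitAt k l) :
    r ≤ Nat.card {C : ConjClasses G // ¬ p ∣ orderOf (crep C)} := by
  classical
  -- the traces in the factors are determined on regular elements, and independent
  have hp := (Fact.out : p.Prime)
  set h : Fin r → G → k := fun l g => (π (single g 1) l).trace with hh
  have hconj : ∀ l (g t : G), h l (t * g * t⁻¹) = h l g := fun l g t => by
    simp only [hh]
    rw [show (single (t * g * t⁻¹) 1 : MonoidAlgebra k G) =
      single (t * g) 1 * single t⁻¹ 1 by rw [MonoidAlgebra.single_mul_single, mul_one], map_mul,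
      Pi.mul_apply, Matrix.trace_mul_comm, ← Pi.mul_apply, ← map_mul,
      MonoidAlgebra.single_mul_single, mul_one, inv_mul_cancel_left]
  have hpart : ∀ l (a y : G) (j : ℕ), Commute a y → orderOf a = p ^ j → h l (a * y) = h l y := by
    intro l a y j hc hj
    haveI : CharP (Matrix (Fin (d l)) (Fin (d l)) k) p :=
      charP_of_injective_algebraMap (algebraMap k _).injective p
    set A := π (single a 1) l with hA
    set Y := π (single y 1) l with hY
    have hAY : Commute A Y := by
      have e : (single a 1 : MonoidAlgebra k G) * single y 1 = single y 1 * single a 1 := by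
        rw [MonoidAlgebra.single_mul_single, MonoidAlgebra.single_mul_single, hc.eq]
      have e' := congrArg (fun z => π z l) e
      simp only [map_mul, Pi.mul_apply] at e'
      exact e'
    have hApow : A ^ p ^ j = 1 := by
      rw [hA, ← Pi.pow_apply, ← map_pow, MonoidAlgebra.single_pow, one_pow, ← hj, pow_orderOf_eq_one,
        ← MonoidAlgebra.one_def, map_one, Pi.one_apply]
    have hA1 : IsNilpotent (A - 1) := ⟨p ^ j, by
      rw [sub_pow_char_pow_of_commute p _ (Commute.one_right A), hApow, one_pow, sub_self]⟩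
    have hnil : IsNilpotent ((A - 1) * Y) :=
      (hAY.sub_left (Commute.one_left Y)).isNilpotent_mul_right hA1
    have h0 := (Matrix.isNilpotent_trace_of_isNilpotent hnil).eq_zero
    rw [sub_mul, one_mul, Matrix.trace_sub, sub_eq_zero] at h0
    simp only [hh]
    rw [← hY, ← h0, hA, hY, ← Pi.mul_apply, ← map_mul, MonoidAlgebra.single_mul_single, mul_one]
  have hli : LinearIndependent k
      (fun l => fun C : {C : ConjClasses G // ¬ p ∣ orderOf (crep C)} => h l (crep C.1)) := by
    rw [Fintype.linearIndependent_iff]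
    intro c hc l
    have hall : ∀ g : G, ∑ l', c l' * h l' g = 0 := by
      intro g
      obtain ⟨a, y, hay, hcm, ⟨j, hj⟩, hy, -, -⟩ := exists_pPart hp g
      subst hay
      rw [Finset.sum_congr rfl fun l' _ => by rw [hpart l' a y j hcm hj]]
      obtain ⟨t, ht⟩ := isConj_iff.1 (isConj_crep y)
      have hord : orderOf y = orderOf (crep (ConjClasses.mk y)) := by
        conv_lhs => rw [← ht]
        exact orderOf_injective (MulAut.conj t).toMonoidHom (MulAut.conj t).injective _
      have hc' := congrFun hc ⟨ConjClasses.mk y, by rwa [← hord]⟩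
      simp only [Finset.sum_apply, Pi.smul_apply, smul_eq_mul, Pi.zero_apply] at hc'
      rw [← hc']
      refine Finset.sum_congr rfl fun l' _ => ?_
      conv_lhs => rw [← ht, hconj]
    have hexp : ∀ l', (π (E l) l').trace = ∑ g, (E l).coeff g * h l' g := by
      intro l'
      have hy : E l = ∑ g, (E l).coeff g • (single g 1 : MonoidAlgebra k G) :=
        ext_coeff fun a => by
          rw [MonoidAlgebra.coeff_sum, Finsupp.finsetSum_apply, Finset.sum_eq_single a] <;>
            simp +contextual
      conv_lhs => rw [hy]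
      rw [map_sum, Finset.sum_apply, Matrix.trace_sum]
      exact Finset.sum_congr rfl fun g _ => by
        rw [map_smul, Pi.smul_apply, Matrix.trace_smul, smul_eq_mul]
    have h1 : ∑ l', c l' * (π (E l) l').trace = 0 := by
      simp only [hexp, Finset.mul_sum]
      rw [Finset.sum_comm]
      refine Finset.sum_eq_zero fun g _ => ?_
      rw [Finset.sum_congr rfl fun l' _ => mul_left_comm _ _ _, ← Finset.mul_sum, hall g, mul_zero]
    rw [Finset.sum_eq_single l (fun l' _ hne => by
      rw [hE, unitAt, Pi.single_eq_of_ne hne, Matrix.trace_zero, mul_zero]) (by simp), hE,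
      unitAt, Pi.single_eq_same, Matrix.trace_single_eq_same, mul_one] at h1
    exact h1
  have := hli.fintype_card_le_finrank
  simpa [Module.finrank_fintype_fun_eq_card, Nat.card_eq_fintype_card] using this

theorem exists_tops [Fact p.Prime] (hM : IsPModular p M) (G : Type u) [Group G] [Fintype G] :
    ∃ (r : ℕ) (e : Fin r → RG hM G), (∀ l, e l * e l = e l) ∧
      (∀ x : RG hM G, x * x = x →
        ∃ N : Fin r → ℕ, ∀ χ : IrrCharacter G, tr hM χ x = ∑ l, (N l : ℂ) * tr hM χ (e l)) ∧
      (∀ c : Fin r → ℤ,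
        (∀ χ : IrrCharacter G, ∑ l, (c l : ℂ) * tr hM χ (e l) = 0) → c = 0) ∧
      r ≤ Nat.card {C : ConjClasses G // ¬ p ∣ orderOf (crep C)} := by
  classical
  haveI := hM.2.1
  letI := kField hM
  haveI : IsAlgClosed (AlgInt ⧸ M) := res_isAlgClosed hM
  haveI := res_charP hM
  set D := locRed hM with hD
  obtain ⟨r, d, π, hd, hπs, m, hm⟩ :=
    exists_pi_quotient (k := AlgInt ⧸ M) (A := MonoidAlgebra (AlgInt ⧸ M) G)
  set φ : RG hM G →+* Π l, Matrix (Fin (d l)) (Fin (d l)) (AlgInt ⧸ M) :=
    π.toRingHom.comp (red D) with hφdef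
  have hφ : ∀ a, D.r a = 0 → φ (algebraMap (loc hM) (RG hM G) a) = 0 := fun a ha => by
    show π (red D _) = 0
    rw [red_algebraMap D ha, map_zero]
  have hφs : Function.Surjective φ := fun y => by
    obtain ⟨z, rfl⟩ := hπs y
    exact ⟨lift0 D z, by show π (red D (lift0 D z)) = π z; rw [red_lift0]⟩
  have hdet : ∀ e : RG hM G, e * e = e → φ e = 0 → e = 0 := by
    intro e he h0
    refine idem_eq_zero D he ?_
    have hmem : red D e ∈ LinearMap.ker π.toLinearMap := h0
    have h1 := Submodule.pow_mem_pow _ hmem (m + 1)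
    rw [pow_succ (LinearMap.ker π.toLinearMap), hm, Submodule.bot_mul, Submodule.mem_bot,
      ← map_pow] at h1
    rw [← h1]
    congr 1
    exact ((show IsIdempotentElem e from he).pow_succ_eq m).symm
  have hint : ∀ a : RG hM G, IsIntegral (loc hM) a := fun a => IsIntegral.of_finite _ a
  have hex : ∀ l, ∃ e : RG hM G, e * e = e ∧ φ e = unitAt (AlgInt ⧸ M) l := by
    intro l
    obtain ⟨x, hx⟩ := hφs (unitAt (AlgInt ⧸ M) l)
    obtain ⟨e, w, hee, -, -, -, -, -, -, -, -, hid, -⟩ :=
      lift_idem D φ hφ (hint x) (one_mul (1 : RG hM G)) (one_mul x) (mul_one x)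
    refine ⟨e, hee, (hid ?_).trans hx⟩
    rw [hx, unitAt, ← Pi.single_mul, Matrix.single_mul_single_same, mul_one]
  choose e hee hφe using hex
  refine ⟨r, e, hee, fun x hx => ?_, fun c hc => ?_, ?_⟩
  rotate_left
  rotate_left
  · exact card_factors_le π (fun l => red D (e l)) fun l => hφe l
  · refine idem_induction (k := AlgInt ⧸ M) φ hdet
      (P := fun x => ∃ N : Fin r → ℕ, ∀ χ : IrrCharacter G,
        tr hM χ x = ∑ l, (N l : ℂ) * tr hM χ (e l))
      ⟨0, fun χ => by simp [tr_zero]⟩ (fun j hj => ?_) ?_ hx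
    · obtain ⟨l, a, b, hab, hba, -⟩ := prim_rank_one D φ hφs hφ hint hdet hj
      rw [← hφe l] at hba
      obtain ⟨a', b', h1, h2⟩ := equiv_lift D φ hφ hdet hint hj.1 (hee l) hab hba
      refine ⟨Pi.single l 1, fun χ => ?_⟩
      rw [Finset.sum_eq_single l (fun l' _ h => by simp [h]) (by simp), Pi.single_eq_same,
        Nat.cast_one, one_mul, ← h1, tr_mul_comm, h2]
    · rintro a b - - - - ⟨Na, hNa⟩ ⟨Nb, hNb⟩
      refine ⟨Na + Nb, fun χ => ?_⟩
      rw [tr_add, hNa, hNb, ← Finset.sum_add_distrib]
      refine Finset.sum_congr rfl fun l _ => ?_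
      simp only [Pi.add_apply, Nat.cast_add]
      ring
  · -- independence: each relation is divisible by `p`
    suffices key : ∀ c : Fin r → ℤ, (∀ χ : IrrCharacter G, ∑ l, (c l : ℂ) * tr hM χ (e l) = 0) →
        ∀ l, (p : ℤ) ∣ c l by
      have hpow : ∀ n : ℕ, ∀ c : Fin r → ℤ,
          (∀ χ : IrrCharacter G, ∑ l, (c l : ℂ) * tr hM χ (e l) = 0) →
            ∀ l, (p : ℤ) ^ n ∣ c l := by
        intro n
        induction n with
        | zero => intros; simp
        | succ n ih =>
          intro c hc l
          choose c' hc' using key c hc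
          rw [hc' l, pow_succ']
          refine mul_dvd_mul_left _ (ih c' (fun χ => ?_) l)
          have h := hc χ
          simp only [hc', Int.cast_mul, Int.cast_natCast, mul_assoc, ← Finset.mul_sum] at h
          exact (mul_eq_zero.1 h).resolve_left (Nat.cast_ne_zero.2 hM.1.ne_zero)
      funext l
      by_contra h0
      obtain ⟨n, hn⟩ := pow_unbounded_of_one_lt (c l).natAbs hM.1.one_lt
      have h1 := Int.natAbs_dvd_natAbs.2 (hpow n c hc l)
      rw [Int.natAbs_pow, Int.natAbs_natCast] at h1
      exact absurd (Nat.le_of_dvd (Int.natAbs_pos.2 h0) h1) (by omega)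
    intro c hc
    set z : RG hM G := ∑ l, c l • e l with hz
    have hcls : ∀ C : ConjClasses G,
        ∑ g ∈ Finset.univ.filter (fun g => ConjClasses.mk g = C), toC z g = 0 := by
      intro C
      obtain ⟨h, rfl⟩ := ConjClasses.mk_surjective C
      have hzχ : ∀ χ : IrrCharacter G, ∑ g, toC z g * (χ : G → ℂ) g = 0 := fun χ => by
        rw [← tr_eq, hz, tr, map_sum]
        show (loc hM).subtype _ = 0
        rw [map_sum, ← hc χ]
        refine Finset.sum_congr rfl fun l _ => ?_
        rw [map_zsmul, map_zsmul, zsmul_eq_mul]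
        rfl
      have h1 : ∑ g, toC z g * (if IsConj g h then
          (Nat.card (Subgroup.centralizer ({g} : Set G)) : ℂ) else 0) = 0 := by
        rw [Finset.sum_congr rfl fun g _ => show _ = ∑ χ : IrrCharacter G,
          conj ((χ : G → ℂ) h) * (toC z g * (χ : G → ℂ) g) by
          rw [← sum_irr_mul_conj g h, Finset.mul_sum]
          exact Finset.sum_congr rfl fun χ _ => by ring, Finset.sum_comm]
        exact Finset.sum_eq_zero fun χ _ => by rw [← Finset.mul_sum, hzχ, mul_zero]
      have hc0 : (Nat.card (Subgroup.centralizer ({h} : Set G)) : ℂ) ≠ 0 :=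
        Nat.cast_ne_zero.2 Nat.card_pos.ne'
      refine (mul_eq_zero.1 ?_).resolve_left hc0
      rw [Finset.mul_sum, Finset.sum_filter]
      refine Eq.trans ?_ h1
      refine Finset.sum_congr rfl fun g _ => ?_
      have hiff : ConjClasses.mk g = ConjClasses.mk h ↔ IsConj g h :=
        ConjClasses.mk_eq_mk_iff_isConj
      by_cases hg : IsConj g h
      · obtain ⟨t, ht⟩ := isConj_iff.1 hg
        have hcard : Nat.card (Subgroup.centralizer ({g} : Set G)) =
            Nat.card (Subgroup.centralizer ({h} : Set G)) := by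
          rw [← ht]
          exact Nat.card_congr
            { toFun := fun x => ⟨t * x * t⁻¹, Subgroup.mem_centralizer_singleton_iff.2 (by
                have := Subgroup.mem_centralizer_singleton_iff.1 x.2
                calc t * x * t⁻¹ * (t * g * t⁻¹) = t * ((x : G) * g) * t⁻¹ := by group
                  _ = t * (g * (x : G)) * t⁻¹ := by rw [this]
                  _ = t * g * t⁻¹ * (t * x * t⁻¹) := by group)⟩
              invFun := fun x => ⟨t⁻¹ * x * t, Subgroup.mem_centralizer_singleton_iff.2 (by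
                have := Subgroup.mem_centralizer_singleton_iff.1 x.2
                calc t⁻¹ * x * t * g = t⁻¹ * ((x : G) * (t * g * t⁻¹)) * t := by group
                  _ = t⁻¹ * (t * g * t⁻¹ * (x : G)) * t := by rw [this]
                  _ = g * (t⁻¹ * x * t) := by group)⟩
              left_inv := fun x => Subtype.ext (by group)
              right_inv := fun x => Subtype.ext (by group) }
        rw [if_pos (hiff.2 hg), if_pos hg, hcard, mul_comm]
      · rw [if_neg (mt hiff.1 hg), if_neg hg, mul_zero]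
    intro l
    -- the trace in the factor `l`
    set L : MonoidAlgebra (AlgInt ⧸ M) G →ₗ[AlgInt ⧸ M] (AlgInt ⧸ M) :=
      (Matrix.traceLinearMap (Fin (d l)) (AlgInt ⧸ M) (AlgInt ⧸ M)).comp
        ((LinearMap.proj l).comp π.toLinearMap) with hL
    have hLcomm : ∀ a b, L (a * b) = L (b * a) := fun a b => by
      show (π (a * b) l).trace = (π (b * a) l).trace
      rw [map_mul, map_mul, Pi.mul_apply, Pi.mul_apply, Matrix.trace_mul_comm]
    set hfun : G → AlgInt ⧸ M := fun g => L (single g 1) with hhfun
    have hLsum : ∀ y, L y = ∑ g, y.coeff g * hfun g := by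
      intro y
      have hy : y = ∑ g, y.coeff g • (single g 1 : MonoidAlgebra (AlgInt ⧸ M) G) :=
        ext_coeff fun a => by
          rw [MonoidAlgebra.coeff_sum, Finsupp.finsetSum_apply, Finset.sum_eq_single a] <;>
            simp +contextual
      conv_lhs => rw [hy]
      rw [map_sum]
      exact Finset.sum_congr rfl fun g _ => by rw [map_smul]; rfl
    have hclass : ∀ g h : G, ConjClasses.mk g = ConjClasses.mk h → hfun g = hfun h := by
      intro g h hgh
      obtain ⟨t, rfl⟩ := isConj_iff.1 (ConjClasses.mk_eq_mk_iff_isConj.1 hgh)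
      simp only [hhfun]
      rw [show (single (t * g * t⁻¹) 1 : MonoidAlgebra (AlgInt ⧸ M) G) =
        single (t * g) 1 * single t⁻¹ 1 by rw [MonoidAlgebra.single_mul_single, mul_one], hLcomm,
        MonoidAlgebra.single_mul_single, mul_one, inv_mul_cancel_left]
    have hLz : L (red D z) = 0 := by
      rw [hLsum, ← Finset.sum_fiberwise Finset.univ (fun g : G => ConjClasses.mk g)]
      refine Finset.sum_eq_zero fun C _ => ?_
      obtain ⟨h, rfl⟩ := ConjClasses.mk_surjective C
      rw [Finset.sum_congr rfl fun g hg => by rw [hclass g h (Finset.mem_filter.1 hg).2],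
        ← Finset.sum_mul]
      have h2 : ∑ g ∈ Finset.univ.filter (fun g => ConjClasses.mk g = ConjClasses.mk h),
          z.coeff g = (0 : loc hM) := Subtype.ext (by
            rw [AddSubmonoidClass.coe_finsetSum]; exact hcls _)
      simp only [coeff_red, ← map_sum, h2, map_zero, zero_mul]
    rw [hz, map_sum, map_sum, Finset.sum_eq_single l] at hLz
    · rw [map_zsmul, map_zsmul] at hLz
      have hLe : L (red D (e l)) = 1 := by
        show (φ (e l) l).trace = 1
        rw [hφe, unitAt, Pi.single_eq_same, Matrix.trace_single_eq_same]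
      rw [hLe, zsmul_one] at hLz
      exact (CharP.intCast_eq_zero_iff (AlgInt ⧸ M) p _).1 hLz
    · intro l' _ hne
      rw [map_zsmul, map_zsmul, show L (red D (e l')) = 0 from by
        show (φ (e l') l).trace = 0
        rw [hφe, unitAt, Pi.single_eq_of_ne hne.symm, Matrix.trace_zero], smul_zero]
    · simp

end CfsgLib.BlockDegreeSquares
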